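import Cfsg.Agent.OD.Pre
import Cfsg.Agent.H6.Top2
import Cfsg.Agent.H6.F23A.D0
set_option autoImplicit false
set_option maxRecDepth 100000
set_option Elab.async false
set_option linter.all false
namespace CfH6.F23A
open CfH6 MulAction
noncomputable def n0_0 : Net := mkNet (nat_lit 32768) [(nat_lit 16384, k0), (nat_lit 8192, k1), (nat_lit 4096, k2), (nat_lit 2048, k3), (nat_lit 1024, k4), (nat_lit 512, k5), (nat_lit 256, k6), (nat_lit 128, k7), (nat_lit 64, k8), (nat_lit 32, k9), (nat_lit 16, k10), (nat_lit 8, k11), (nat_lit 4, k12), (nat_lit 2, k13)] [(k14, nat_lit 1)]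
noncomputable def n0_1 : Net := mkNet (nat_lit 32768) [(nat_lit 16384, k15), (nat_lit 8192, k16), (nat_lit 4096, k17), (nat_lit 2048, k18), (nat_lit 1024, k19), (nat_lit 512, k20), (nat_lit 256, k21), (nat_lit 128, k22), (nat_lit 64, k23), (nat_lit 32, k24), (nat_lit 16, k25), (nat_lit 8, k26), (nat_lit 4, k27), (nat_lit 2, k28)] [(k29, nat_lit 1)]
noncomputable def n0_2 : Net := mkNet (nat_lit 32768) [(nat_lit 16384, k30), (nat_lit 8192, k31), (nat_lit 4096, k32), (nat_lit 2048, k33), (nat_lit 1024, k34), (nat_lit 512, k35), (nat_lit 256, k36), (nat_lit 128, k37), (nat_lit 64, k38), (nat_lit 32, k39), (nat_lit 16, k40), (nat_lit 8, k41), (nat_lit 4, k42), (nat_lit 2, k43)] [(k44, nat_lit 1)]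
noncomputable def n0_3 : Net := mkNet (nat_lit 32768) [(nat_lit 16384, k45), (nat_lit 8192, k46), (nat_lit 4096, k47), (nat_lit 2048, k48), (nat_lit 1024, k49), (nat_lit 512, k50), (nat_lit 256, k51), (nat_lit 128, k52), (nat_lit 64, k53), (nat_lit 32, k54), (nat_lit 16, k55), (nat_lit 8, k56), (nat_lit 4, k57), (nat_lit 2, k58)] [(k59, nat_lit 1)]
noncomputable def n0_4 : Net := mkNet (nat_lit 32768) [(nat_lit 16384, k60), (nat_lit 8192, k61), (nat_lit 4096, k62), (nat_lit 2048, k63), (nat_lit 1024, k64), (nat_lit 512, k65), (nat_lit 256, k66), (nat_lit 128, k67), (nat_lit 64, k68), (nat_lit 32, k69), (nat_lit 16, k70), (nat_lit 8, k71), (nat_lit 4, k72), (nat_lit 2, k73)] [(k74, nat_lit 1)]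
noncomputable def n0_5 : Net := mkNet (nat_lit 32768) [(nat_lit 16384, k75), (nat_lit 8192, k76), (nat_lit 4096, k77), (nat_lit 2048, k78), (nat_lit 1024, k79), (nat_lit 512, k80), (nat_lit 256, k81), (nat_lit 128, k82), (nat_lit 64, k83), (nat_lit 32, k84), (nat_lit 16, k85), (nat_lit 8, k86), (nat_lit 4, k87), (nat_lit 2, k88)] [(k89, nat_lit 1)]
noncomputable def n0_6 : Net := mkNet (nat_lit 32768) [(nat_lit 16384, k90), (nat_lit 8192, k91), (nat_lit 4096, k92), (nat_lit 2048, k93), (nat_lit 1024, k94), (nat_lit 512, k95), (nat_lit 256, k96), (nat_lit 128, k97), (nat_lit 64, k98), (nat_lit 32, k99), (nat_lit 16, k100), (nat_lit 8, k101), (nat_lit 4, k102), (nat_lit 2, k103)] [(k104, nat_lit 1)]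
noncomputable def n0_7 : Net := mkNet (nat_lit 32768) [(nat_lit 16384, k105), (nat_lit 8192, k106), (nat_lit 4096, k107), (nat_lit 2048, k108), (nat_lit 1024, k109), (nat_lit 512, k110), (nat_lit 256, k111), (nat_lit 128, k112), (nat_lit 64, k113), (nat_lit 32, k114), (nat_lit 16, k115), (nat_lit 8, k116), (nat_lit 4, k117), (nat_lit 2, k118)] [(k119, nat_lit 1)]
noncomputable def n0_8 : Net := mkNet (nat_lit 32768) [(nat_lit 16384, k120), (nat_lit 8192, k121), (nat_lit 4096, k122), (nat_lit 2048, k123), (nat_lit 1024, k124), (nat_lit 512, k125), (nat_lit 256, k126), (nat_lit 128, k127), (nat_lit 64, k128), (nat_lit 32, k129), (nat_lit 16, k130), (nat_lit 8, k131), (nat_lit 4, k132), (nat_lit 2, k133)] [(k134, nat_lit 1)]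
noncomputable def n0_9 : Net := mkNet (nat_lit 32768) [(nat_lit 16384, k135), (nat_lit 8192, k136), (nat_lit 4096, k137), (nat_lit 2048, k138), (nat_lit 1024, k139), (nat_lit 512, k140), (nat_lit 256, k141), (nat_lit 128, k142), (nat_lit 64, k143), (nat_lit 32, k144), (nat_lit 16, k145), (nat_lit 8, k146), (nat_lit 4, k147), (nat_lit 2, k148)] [(k149, nat_lit 1)]
noncomputable def n0_10 : Net := mkNet (nat_lit 32768) [(nat_lit 16384, k150), (nat_lit 8192, k151), (nat_lit 4096, k152), (nat_lit 2048, k153), (nat_lit 1024, k154), (nat_lit 512, k155), (nat_lit 256, k156), (nat_lit 128, k157), (nat_lit 64, k158), (nat_lit 32, k159), (nat_lit 16, k160), (nat_lit 8, k161), (nat_lit 4, k162), (nat_lit 2, k163)] [(k164, nat_lit 1)]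
noncomputable def n0_11 : Net := mkNet (nat_lit 32768) [(nat_lit 16384, k165), (nat_lit 8192, k166), (nat_lit 4096, k167), (nat_lit 2048, k168), (nat_lit 1024, k169), (nat_lit 512, k170), (nat_lit 256, k171), (nat_lit 128, k172), (nat_lit 64, k173), (nat_lit 32, k174), (nat_lit 16, k175), (nat_lit 8, k176), (nat_lit 4, k177), (nat_lit 2, k178)] [(k179, nat_lit 1)]
noncomputable def n2_0 : Net := mkNet (nat_lit 384) [(nat_lit 192, k180), (nat_lit 96, k181), (nat_lit 48, k182), (nat_lit 24, k183), (nat_lit 12, k184), (nat_lit 6, k185), (nat_lit 3, k186)] [(k187, nat_lit 1), (k188, nat_lit 1), (k189, nat_lit 1)]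
noncomputable def n2_1 : Net := mkNet (nat_lit 384) [(nat_lit 192, k190), (nat_lit 96, k191), (nat_lit 48, k192), (nat_lit 24, k193), (nat_lit 12, k194), (nat_lit 6, k195), (nat_lit 3, k196)] [(k197, nat_lit 1), (k198, nat_lit 1), (k199, nat_lit 1)]
noncomputable def n2_2 : Net := mkNet (nat_lit 384) [(nat_lit 192, k200), (nat_lit 96, k201), (nat_lit 48, k202), (nat_lit 24, k203), (nat_lit 12, k204), (nat_lit 6, k205), (nat_lit 3, k206)] [(k207, nat_lit 1), (k208, nat_lit 1), (k209, nat_lit 1)]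
noncomputable def n2_3 : Net := mkNet (nat_lit 384) [(nat_lit 192, k210), (nat_lit 96, k211), (nat_lit 48, k212), (nat_lit 24, k213), (nat_lit 12, k214), (nat_lit 6, k215), (nat_lit 3, k216)] [(k217, nat_lit 1), (k218, nat_lit 1), (k219, nat_lit 1)]
noncomputable def n2_4 : Net := mkNet (nat_lit 384) [(nat_lit 192, k220), (nat_lit 96, k221), (nat_lit 48, k222), (nat_lit 24, k223), (nat_lit 12, k224), (nat_lit 6, k225), (nat_lit 3, k226)] [(k227, nat_lit 1), (k228, nat_lit 1), (k229, nat_lit 1)]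
noncomputable def n2_5 : Net := mkNet (nat_lit 384) [(nat_lit 192, k230), (nat_lit 96, k231), (nat_lit 48, k232), (nat_lit 24, k233), (nat_lit 12, k234), (nat_lit 6, k235), (nat_lit 3, k236)] [(k237, nat_lit 1), (k238, nat_lit 1), (k239, nat_lit 1)]
noncomputable def n2_6 : Net := mkNet (nat_lit 384) [(nat_lit 192, k240), (nat_lit 96, k241), (nat_lit 48, k242), (nat_lit 24, k243), (nat_lit 12, k244), (nat_lit 6, k245), (nat_lit 3, k246)] [(k247, nat_lit 1), (k248, nat_lit 1), (k249, nat_lit 1)]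
noncomputable def n2_7 : Net := mkNet (nat_lit 384) [(nat_lit 192, k250), (nat_lit 96, k251), (nat_lit 48, k252), (nat_lit 24, k253), (nat_lit 12, k254), (nat_lit 6, k255), (nat_lit 3, k256)] [(k257, nat_lit 1), (k258, nat_lit 1), (k259, nat_lit 1)]
noncomputable def n3_0 : Net := mkNet (nat_lit 256) [(nat_lit 128, k260), (nat_lit 64, k261), (nat_lit 32, k262), (nat_lit 16, k263), (nat_lit 8, k264), (nat_lit 4, k265), (nat_lit 2, k266)] [(k267, nat_lit 1)]
noncomputable def n3_1 : Net := mkNet (nat_lit 256) [(nat_lit 128, k268), (nat_lit 64, k269), (nat_lit 32, k270), (nat_lit 16, k271), (nat_lit 8, k272), (nat_lit 4, k273), (nat_lit 2, k274)] [(k275, nat_lit 1)]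
noncomputable def n3_2 : Net := mkNet (nat_lit 256) [(nat_lit 128, k276), (nat_lit 64, k277), (nat_lit 32, k278), (nat_lit 16, k279), (nat_lit 8, k280), (nat_lit 4, k281), (nat_lit 2, k282)] [(k283, nat_lit 1)]
noncomputable def n4_0 : Net := mkNet (nat_lit 80) [(nat_lit 40, (nat_lit 0x200b4127c0203c539ac)), (nat_lit 20, (nat_lit 0x9f3309da721adf01bb50)), (nat_lit 10, (nat_lit 0xb7ae86210a0703844882)), (nat_lit 5, (nat_lit 0x620b4631dcb51246228e))] [((nat_lit 0x21425014a10140100424), nat_lit 1), ((nat_lit 0x521420084a5094200902), nat_lit 1), ((nat_lit 0x21084014852108101484), nat_lit 1), ((nat_lit 0x808008084014002040), nat_lit 1), ((nat_lit 0x400000000002000020), nat_lit 1)]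
noncomputable def n4_1 : Net := mkNet (nat_lit 80) [(nat_lit 40, (nat_lit 0x1bd58361401124928f4)), (nat_lit 20, (nat_lit 0x568e5571b62ab12280b2)), (nat_lit 10, (nat_lit 0xc6f48e9b2079966ed3a4)), (nat_lit 5, (nat_lit 0x46350e6128000b46e8c4))] [((nat_lit 0x14a4010a12042400480), nat_lit 1), ((nat_lit 0x509420284a1094a52900), nat_lit 1), ((nat_lit 0x214a5014a40048520480), nat_lit 1), ((nat_lit 0x128400204a0014a40040), nat_lit 1), ((nat_lit 0x1000000010002000000), nat_lit 1)]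
noncomputable def n5_0 : Net := mkNet (nat_lit 40) [(nat_lit 20, (nat_lit 0x1c3801c300)), (nat_lit 10, (nat_lit 0x9d610c0300)), (nat_lit 5, (nat_lit 0xa93bcc4000))] [((nat_lit 0x100401020), nat_lit 1), ((nat_lit 0x1094202000), nat_lit 1), ((nat_lit 0x100401000), nat_lit 1)]
noncomputable def n5_1 : Net := mkNet (nat_lit 40) [(nat_lit 20, (nat_lit 0x2183020830)), (nat_lit 10, (nat_lit 0x3084014030)), (nat_lit 5, (nat_lit 0x109a473a10))] [((nat_lit 0x102008400), nat_lit 1), ((nat_lit 0x84012940), nat_lit 1), ((nat_lit 0x14a021080), nat_lit 1), ((nat_lit 0x10002940), nat_lit 1), ((nat_lit 0x400), nat_lit 1)]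
noncomputable def n5_2 : Net := mkNet (nat_lit 40) [(nat_lit 20, (nat_lit 0x2eaea2e5aa)), (nat_lit 10, (nat_lit 0x6b9bacab68)), (nat_lit 5, (nat_lit 0xee2f0bd148))] [((nat_lit 0x940009080), nat_lit 1), ((nat_lit 0x5084a10840), nat_lit 1), ((nat_lit 0x2142529000), nat_lit 1), ((nat_lit 0x5000a02000), nat_lit 1), ((nat_lit 0x800500000), nat_lit 1)]
noncomputable def n6_0 : Net := mkNet (nat_lit 20) [(nat_lit 10, (nat_lit 0xf03c0)), (nat_lit 5, (nat_lit 0x31000))] [((nat_lit 0x29400), nat_lit 1), ((nat_lit 0x52840), nat_lit 1), ((nat_lit 0x29000), nat_lit 1), ((nat_lit 0x2800), nat_lit 1), ((nat_lit 0x400), nat_lit 1)]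
noncomputable def n6_1 : Net := mkNet (nat_lit 20) [(nat_lit 10, (nat_lit 0x84250)), (nat_lit 5, (nat_lit 0xb4a10))] [((nat_lit 0x12940), nat_lit 1), ((nat_lit 0x9480), nat_lit 1), ((nat_lit 0x2800), nat_lit 1), ((nat_lit 0x1000), nat_lit 1)]
noncomputable def n7_0 : Net := mkNet (nat_lit 10) [(nat_lit 5, (nat_lit 0))] [((nat_lit 0x100), nat_lit 1), ((nat_lit 0x80), nat_lit 1)]
noncomputable def nets0 : List Net := [n0_0, n0_1, n0_2, n0_3, n0_4, n0_5, n0_6, n0_7, n0_8, n0_9, n0_10, n0_11]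
noncomputable def nets1 : List Net := [n0_0, n0_1, n0_2, n0_3, n0_4, n0_5, n0_6, n0_8, n0_9]
def ws1 : List (List ℕ) := [[0],
  [1],
  [2],
  [3],
  [4],
  [5],
  [6],
  [8],
  [9]]
noncomputable def nets2 : List Net := [n2_0, n2_1, n2_2, n2_3, n2_4, n2_5, n2_6, n2_7]
def ws2 : List (List ℕ) := [[0],
  [1],
  [2],
  [3],
  [4],
  [5],
  [7],
  [8]]
noncomputable def nets3 : List Net := [n3_0, n3_1, n3_2]
def ws3 : List (List ℕ) := [[0, 6, 3, 2, 4, 5, 7, 4, 0, 3, 7, 3, 0, 0, 4, 7, 6, 3, 5, 5, 6, 5, 6, 4, 0, 0, 7, 6, 3, 1, 5, 3, 3, 5, 3, 3, 3, 7, 6, 2, 0, 5, 0, 2, 1, 0, 2, 6, 4, 3, 2, 2, 0, 0, 1, 7, 3, 6, 4, 0, 6, 2, 5, 1, 3, 2, 5, 2, 0, 1, 0, 4, 0, 7, 6],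
  [1],
  [2]]
noncomputable def nets4 : List Net := [n4_0, n4_1]
def ws4 : List (List ℕ) := [[0, 0, 1, 0, 0, 0, 1, 0, 1, 1],
  [0, 1, 0, 0, 2, 0, 2, 1, 0]]
noncomputable def nets5 : List Net := [n5_0, n5_1, n5_2]
def ws5 : List (List ℕ) := [[1, 0, 1, 1, 1, 0, 0, 0],
  [1, 1, 1, 0, 1, 0, 0, 1],
  [0, 1, 0]]
noncomputable def nets6 : List Net := [n6_0, n6_1]
def ws6 : List (List ℕ) := [[2, 1, 0, 1, 1],
  [1, 2, 0, 1]]
noncomputable def nets7 : List Net := [n7_0]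
def ws7 : List (List ℕ) := [[1, 1, 1, 0, 1, 0]]
def sig : List (List ℕ) := [[0],
  [1],
  [2],
  [3],
  [4],
  [5],
  [6],
  [7],
  [8],
  [9],
  [0, 1, 2, 3, 4, 5, 8],
  [3, 2, 1, 3, 4, 5, 3, 8, 9]]
def eqs0 : List (List ℕ × List ℕ) := [([10], [0, 1, 2, 3, 4, 5, 8]),
  ([11], [3, 2, 1, 3, 4, 5, 3, 8, 9]),
  ([10, 10, 10, 10, 10, 10, 10, 10, 10], []),
  ([11, 11, 11, 11, 11, 11, 11, 11, 11, 11], []),
  ([0, 0], []),
  ([1, 1], []),
  ([2, 2], []),
  ([3, 3], []),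
  ([4, 4], []),
  ([5, 5], []),
  ([6, 6], []),
  ([7, 7], []),
  ([8, 8], []),
  ([9, 9], []),
  ([0, 1, 0], [1, 0, 1]),
  ([0, 2], [2, 0]),
  ([0, 3], [3, 0]),
  ([0, 4], [4, 0]),
  ([0, 5], [5, 0]),
  ([0, 6], [6, 0]),
  ([0, 7], [7, 0]),
  ([0, 8], [8, 0]),
  ([0, 9], [9, 0]),
  ([1, 2, 1], [2, 1, 2]),
  ([1, 3], [3, 1]),
  ([1, 4], [4, 1]),
  ([1, 5], [5, 1]),
  ([1, 6], [6, 1]),
  ([1, 7], [7, 1]),
  ([1, 8], [8, 1]),
  ([1, 9], [9, 1]),
  ([2, 3, 2], [3, 2, 3]),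
  ([2, 4], [4, 2]),
  ([2, 5], [5, 2]),
  ([2, 6], [6, 2]),
  ([2, 7], [7, 2]),
  ([2, 8], [8, 2]),
  ([2, 9], [9, 2]),
  ([3, 4, 3], [4, 3, 4]),
  ([3, 5], [5, 3]),
  ([3, 6], [6, 3]),
  ([3, 7], [7, 3]),
  ([3, 8, 3], [8, 3, 8]),
  ([3, 9], [9, 3]),
  ([4, 5, 4], [5, 4, 5]),
  ([4, 6], [6, 4]),
  ([4, 7], [7, 4]),
  ([4, 8], [8, 4]),
  ([4, 9], [9, 4]),
  ([5, 6, 5], [6, 5, 6]),
  ([5, 7], [7, 5]),
  ([5, 8], [8, 5]),
  ([5, 9], [9, 5]),
  ([6, 7, 6], [7, 6, 7]),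
  ([6, 8], [8, 6]),
  ([6, 9], [9, 6]),
  ([7, 8], [8, 7]),
  ([7, 9], [9, 7]),
  ([8, 9, 8], [9, 8, 9])]
def eqs : List (List ℕ × List ℕ) := eqs0
def lU : List (ℕ × ℕ) := [(0, 18), (20, 14), (40, 32), (80, 163), (256, 126), (384, 31318)]
noncomputable def U : ℕ := ivls lU
def l1 : List (ℕ × ℕ) := [(1, 1), (384, 28159)]
noncomputable def S1 : ℕ := ivls l1
def w1 : List ℕ := [7]
def l2 : List (ℕ × ℕ) := [(2, 16), (20, 14), (40, 32), (80, 163), (256, 126), (28543, 3159)]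
noncomputable def S2 : ℕ := ivls l2
def w2 : List ℕ := [7, 6, 5, 4, 3, 8, 2, 3, 4, 5, 6, 7]
noncomputable def J : List (List ℕ × ℕ × ℕ) := [(w1, 1, S1), (w2, 28543, S2)]
def lBig : List (ℕ × ℕ) := [(1, 1), (384, 28159)]
noncomputable def J2 : List (List ℕ × ℕ × ℕ) := [([7, 6, 5, 4, 3, 2, 0, 2, 0], 1, S1)]
noncomputable def J1 : List (List ℕ × ℕ × ℕ) := [([0], 1, S1)]
def ex : List (List ℕ) := [[7, 4, 0, 8, 0, 3, 5, 1, 0, 2, 6]]
def bs' : List ℕ := [0, 1, 2, 3, 4, 5, 6, 7]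
end CfH6.F23A
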