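import Cfsg.Agent.OD.Pre
import Cfsg.Agent.H6.Top2
import Cfsg.Agent.H6.F23A.C
set_option autoImplicit false
set_option maxRecDepth 100000
set_option Elab.async false
set_option linter.all false
namespace CfH6.F23A
open CfH6 MulAction
theorem e0_0 : EqsOk nets0 eqs0 32768 15 0 7 :=
  eqsOk_of _ _ _ _ 0 7 _ (by decide) (by decide +kernel)
theorem e0_7 : EqsOk nets0 eqs0 32768 15 7 14 :=
  eqsOk_of _ _ _ _ 7 7 _ (by decide) (by decide +kernel)
theorem e0_14 : EqsOk nets0 eqs0 32768 15 14 15 :=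
  eqsOk_of _ _ _ _ 14 1 _ (by decide) (by decide +kernel)
theorem ok0 : okNets 32768 nets0 = true := by decide +kernel
theorem x1_0 : NxOk nets0 ws1 nets1 9 32768 15 32768 0 15 :=
  nxOk_of _ _ _ _ _ _ _ 0 15 _ (by decide) (by decide +kernel)
theorem sx1 : sideNx ws1 nets1 10 32768 15 32768 = true := by decide +kernel
theorem x2_0 : NxOk nets1 ws2 nets2 8 32768 15 384 0 15 :=
  nxOk_of _ _ _ _ _ _ _ 0 15 _ (by decide) (by decide +kernel)
theorem sx2 : sideNx ws2 nets2 9 32768 15 384 = true := by decide +kernel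
theorem x3_0 : NxOk nets2 ws3 nets3 3 384 9 256 0 9 :=
  nxOk_of _ _ _ _ _ _ _ 0 9 _ (by decide) (by decide +kernel)
theorem sx3 : sideNx ws3 nets3 8 384 9 256 = true := by decide +kernel
theorem x4_0 : NxOk nets3 ws4 nets4 2 256 8 80 0 8 :=
  nxOk_of _ _ _ _ _ _ _ 0 8 _ (by decide) (by decide +kernel)
theorem sx4 : sideNx ws4 nets4 3 256 8 80 = true := by decide +kernel
theorem x5_0 : NxOk nets4 ws5 nets5 3 80 7 40 0 7 :=
  nxOk_of _ _ _ _ _ _ _ 0 7 _ (by decide) (by decide +kernel)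
theorem sx5 : sideNx ws5 nets5 2 80 7 40 = true := by decide +kernel
theorem x6_0 : NxOk nets5 ws6 nets6 2 40 6 20 0 6 :=
  nxOk_of _ _ _ _ _ _ _ 0 6 _ (by decide) (by decide +kernel)
theorem sx6 : sideNx ws6 nets6 3 40 6 20 = true := by decide +kernel
theorem x7_0 : NxOk nets6 ws7 nets7 1 20 5 10 0 5 :=
  nxOk_of _ _ _ _ _ _ _ 0 5 _ (by decide) (by decide +kernel)
theorem sx7 : sideNx ws7 nets7 2 20 5 10 = true := by decide +kernel
theorem oi1_0 : (Nat.blt 0 9 && Nat.beq (orbN nets1 9 81 (Nat.shiftLeft 1 1)) S1) = true := by decide +kernel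
theorem ci1 : (Nat.beq (chkInv nets1 9 S1) 0 && S1.testBit 1) = true := by decide +kernel
theorem oi2_0 : (Nat.blt 0 9 && Nat.beq (orbN nets1 9 54 (Nat.shiftLeft 1 28543)) S2) = true := by decide +kernel
theorem ci2 : (Nat.beq (chkInv nets1 9 S2) 0 && S2.testBit 28543) = true := by decide +kernel
theorem cm2 : chkMx 32768 nets0 10 ws1 9 31671 w2 28543 J2 lBig = true := by decide +kernel
theorem cm1 : chkMx 32768 nets0 10 ws1 9 31671 w1 1 J1 lBig = true := by decide +kernel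
theorem og7 : Nat.ble 3 (popc 4 (orbN nets7 1 2 (Nat.shiftLeft 1 7))) = true := by decide +kernel
theorem og6 : Nat.ble 12 (popc 5 (orbN nets6 2 6 (Nat.shiftLeft 1 6))) = true := by decide +kernel
theorem og5 : Nat.ble 27 (popc 6 (orbN nets5 3 9 (Nat.shiftLeft 1 5))) = true := by decide +kernel
theorem og4 : Nat.ble 60 (popc 7 (orbN nets4 2 12 (Nat.shiftLeft 1 4))) = true := by decide +kernel
theorem og3 : Nat.ble 224 (popc 8 (orbN nets3 3 21 (Nat.shiftLeft 1 3))) = true := by decide +kernel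
theorem og2 : Nat.ble 351 (popc 9 (orbN nets2 8 48 (Nat.shiftLeft 1 2))) = true := by decide +kernel
theorem pw0 : (allLt 10 (wpow [7, 4, 0, 8, 0, 3, 5, 1, 0, 2, 6] (17 ^ 1)) && bs'.all fun b => Nat.blt b 32768 && Nat.beq (chkMap nets0 (wpow [7, 4, 0, 8, 0, 3, 5, 1, 0, 2, 6] (17 ^ 1)) b b) 0) = true := by decide +kernel
end CfH6.F23A
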